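import Groth.Agent.KoszulLib.DescentKindsSch
import Groth.Agent.FpqcDescent.Immersion

/-!
# Descent of regular immersions along flat surjective morphisms locally of finite presentation
-/

set_option autoImplicit false
set_option linter.style.haveILetI false
universe u

open CategoryTheory Limits AlgebraicGeometry

namespace Groth.Agent.RegImmKinds

open Groth.Agent.KoszulLib

/-- Regularity at a point passes from the restriction over an affine open to the morphism. -/
theorem isRegularImmersionAt_of_restrict {Z X : Scheme.{u}} (k : RegImm.Kind) (i : Z ⟶ X) (O : X.Opens)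
    (z : Z) (hz : i z ∈ O) (h : RegImm.IsRegularImmersionAt k (i ∣_ O) ⟨z, hz⟩) :
    RegImm.IsRegularImmersionAt k i z := by
  obtain ⟨D, hzD, hc, rs, hrs, hker⟩ := h
  refine ⟨⟨O.ι ''ᵁ D.1, D.2.image_of_isOpenImmersion O.ι⟩, ?_, ?_, rs, hrs, ?_⟩
  · exact ⟨(i ∣_ O) ⟨z, hz⟩, hzD, by
      show O.ι ((i ∣_ O) ⟨z, hz⟩) = i z
      rw [← Scheme.Hom.comp_apply, morphismRestrict_ι]
      rfl⟩
  · exact (MorphismProperty.arrow_mk_iso_iff @IsClosedImmersion (morphismRestrictRestrict i O D.1)).1 hc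
  · refine Eq.trans ?_ hker
    rw [morphismRestrict_app]
    exact (RingHom.ker_comp_of_injective (i.app (O.ι ''ᵁ D.1)).hom
      (ConcreteCategory.bijective_of_isIso (Z.presheaf.map (eqToHom
        (image_morphismRestrict_preimage i O D.1)).op)).1).symm

/-- An affine scheme over an open subscheme, flat and surjective, factoring through a given open
surjective flat morphism. -/
theorem exists_affine_cover {X X' : Scheme.{u}} (g : X' ⟶ X) [Flat g] [Surjective g] [UniversallyOpen g]
    (U : X.affineOpens) :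
    ∃ (T : Scheme.{u}) (q : T ⟶ X') (p : T ⟶ U.1.toScheme), IsAffine T ∧ Flat q ∧ Flat p ∧ Surjective p ∧
      p ≫ U.1.ι = q ≫ g := by
  let 𝒲 := (g ⁻¹ᵁ U.1).toScheme.affineCover
  haveI : UniversallyOpen (g ∣_ U.1) := IsZariskiLocalAtTarget.restrict (P := @UniversallyOpen) inferInstance U.1
  haveI : Surjective (g ∣_ U.1) := IsZariskiLocalAtTarget.restrict (P := @Surjective) inferInstance U.1
  have hopen : ∀ j, IsOpen (Set.range ⇑(𝒲.f j ≫ g ∣_ U.1)) := fun j =>
    (𝒲.f j ≫ g ∣_ U.1).isOpenMap.isOpen_range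
  haveI : CompactSpace U.1.toScheme := isCompact_iff_compactSpace.mp U.2.isCompact
  obtain ⟨s, hs⟩ := isCompact_univ.elim_finite_subcover _ hopen (fun x _ => by
    obtain ⟨y, rfl⟩ := (g ∣_ U.1).surjective x
    obtain ⟨j, w, rfl⟩ := 𝒲.exists_eq y
    exact Set.mem_iUnion.2 ⟨j, w, by rw [Scheme.Hom.comp_apply]⟩)
  let T := ∐ fun j : s => 𝒲.X j.1
  let p₀ : T ⟶ (g ⁻¹ᵁ U.1).toScheme := Sigma.desc fun j : s => 𝒲.f j.1
  haveI : ∀ j : s, IsAffine (𝒲.X j.1) := fun j => inferInstanceAs (IsAffine ((g ⁻¹ᵁ U.1).toScheme.affineCover.X j.1))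
  haveI : Flat p₀ := IsZariskiLocalAtSource.sigmaDesc fun j => inferInstance
  haveI : Flat (g ∣_ U.1) := inferInstance
  refine ⟨T, p₀ ≫ (g ⁻¹ᵁ U.1).ι, p₀ ≫ g ∣_ U.1, inferInstance, inferInstance, inferInstance,
    ⟨fun x => ?_⟩, by simp⟩
  obtain ⟨j, hj, w, hw⟩ := Set.mem_iUnion₂.1 (hs (Set.mem_univ x))
  exact ⟨Sigma.ι (fun j : s => 𝒲.X j.1) ⟨j, hj⟩ w, by
    rw [← hw, ← Scheme.Hom.comp_apply]
    simp [p₀]⟩

/-- Descent of regular immersions (kinds other than plain regular) along a universally open flat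
surjective morphism, for a morphism known to be an immersion. -/
theorem isRegularImmersion_descent_open {X Y X' Y' : Scheme.{u}} (i : Y ⟶ X) [IsImmersion i]
    (g : X' ⟶ X) [Flat g] [Surjective g] [UniversallyOpen g] (k : RegImm.Kind) (hk : k ≠ .regular)
    (i' : Y' ⟶ X') (g' : Y' ⟶ Y) (hsq : IsPullback g' i' i g) (hi' : RegImm.IsRegularImmersion k i') :
    RegImm.IsRegularImmersion k i := by
  refine ⟨inferInstance, fun z => ?_⟩
  obtain ⟨_, ⟨(U : X.Opens), hU, rfl⟩, hzU, -⟩ :=
    X.isBasis_affineOpens.exists_subset_of_mem_open (Set.mem_univ (i z)) isOpen_univ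
  obtain ⟨T, q, p, hT, hq, hp, hps, hpq⟩ := exists_affine_cover g ⟨U, hU⟩
  haveI : IsAffine (⟨U, hU⟩ : X.affineOpens).1.toScheme := hU
  haveI : QuasiCompact p := inferInstance
  have h1 := isRegularImmersion_kind_flat_baseChange k (IsPullback.of_hasPullback i' q) hi'
  have h2 : IsPullback (pullback.fst i' q ≫ g') (pullback.snd i' q) i (p ≫ (Scheme.Opens.ι U)) := by
    rw [hpq]
    exact (IsPullback.of_hasPullback i' q).paste_horiz hsq
  have h3 : IsPullback (i ⁻¹ᵁ U).ι (i ∣_ U) i (Scheme.Opens.ι U) := (isPullback_morphismRestrict i U).flip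
  let l : pullback i' q ⟶ (i ⁻¹ᵁ U).toScheme :=
    h3.lift (pullback.fst i' q ≫ g') (pullback.snd i' q ≫ p) (by rw [h2.w, Category.assoc])
  have h4 : IsPullback l (pullback.snd i' q) (i ∣_ U) p :=
    IsPullback.of_right (by rw [h3.lift_fst]; exact h2) (h3.lift_snd _ _ _) h3
  exact isRegularImmersionAt_of_restrict k i U z hzU
    ((isRegularImmersion_descent_of_ne_regular (i ∣_ U) p k hk _ l h4 h1).2 ⟨z, hzU⟩)

/-- Regular immersions (kinds other than plain regular) descend along fppf coverings. -/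
theorem isRegularImmersion_descent_fppf {X Y X' Y' : Scheme.{u}} (i : Y ⟶ X)
    (g : X' ⟶ X) [Flat g] [Surjective g] [LocallyOfFinitePresentation g] (k : RegImm.Kind) (hk : k ≠ .regular)
    (i' : Y' ⟶ X') (g' : Y' ⟶ Y) (hsq : IsPullback g' i' i g) (hi' : RegImm.IsRegularImmersion k i') :
    RegImm.IsRegularImmersion k i := by
  haveI : IsImmersion i := MorphismProperty.of_isPullback_of_descendsAlong
    (P := @IsImmersion) (Q := @Surjective ⊓ @Flat ⊓ @LocallyOfFinitePresentation)
    hsq.flip ⟨⟨inferInstance, inferInstance⟩, inferInstance⟩ hi'.1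
  haveI : UniversallyOpen g := inferInstance
  exact isRegularImmersion_descent_open i g k hk i' g' hsq hi'

end Groth.Agent.RegImmKinds
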