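import Groth.Agent.KoszulLib.SchComp
import Groth.Agent.KoszulLib.FlatKinds
import Groth.Agent.KoszulLib.SeqProps
import Groth.Agent.QRAppend.Basic
import Groth.Agent.S2105

/-!
# Composition of H1-regular and quasi-regular immersions
-/

set_option autoImplicit false
set_option linter.style.haveILetI false
universe u

open CategoryTheory Limits AlgebraicGeometry

namespace Groth.Agent.RegImmKinds

open Groth.Agent.KoszulLib

variable {X Y Z : Scheme.{u}}

/-- On the affine open `U` the immersion `i` is cut out by a `P`-sequence of length `n`. -/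
def PSeqOn (P : ∀ {R : Type u} [CommRing R] {n : ℕ}, (Fin n → R) → Prop) (i : Y ⟶ X) (U : X.affineOpens) (n : ℕ) :
    Prop :=
  IsClosedImmersion (i ∣_ U.1) ∧ ∃ f : Fin n → Γ(X, U.1),
    P f ∧ RingHom.ker (i.app U.1).hom = Ideal.span (Set.range f)

theorem pSeqOn_mono {P : ∀ {R : Type u} [CommRing R] {n : ℕ}, (Fin n → R) → Prop} (hP : GoodSeq @P)
    {i : Y ⟶ X} {U : X.affineOpens} {n : ℕ} (h : PSeqOn @P i U n) (W : X.affineOpens) (e : W.1 ≤ U.1) :
    PSeqOn @P i W n := by
  obtain ⟨hc, f, hf, hker⟩ := h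
  obtain ⟨hcW, hkerW⟩ := ker_app_of_le i U hc W e
  have hflat : ((𝟙 X : X ⟶ X).appLE U.1 W.1 e).hom.Flat := HasRingHomProperty.appLE @Flat (𝟙 X) inferInstance U W e
  have halg : X.presheaf.map (homOfLE e).op = (𝟙 X : X ⟶ X).appLE U.1 W.1 e := by
    simp [Scheme.Hom.appLE]
    exact (Category.id_comp _).symm
  rw [← halg] at hflat
  letI : Algebra Γ(X, U.1) Γ(X, W.1) := (X.presheaf.map (homOfLE e).op).hom.toAlgebra
  haveI : Module.Flat Γ(X, U.1) Γ(X, W.1) := hflat
  refine ⟨hcW, algebraMap Γ(X, U.1) Γ(X, W.1) ∘ f, hP.flat hf, ?_⟩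
  rw [hkerW, hker, Ideal.map_span, ← Set.range_comp]
  rfl

/-- The composite is cut out by the concatenated sequence. -/
theorem exists_pSeqOn_comp {P Q : ∀ {R : Type u} [CommRing R] {n : ℕ}, (Fin n → R) → Prop}
    (hP : GoodSeq @P) (hQ : GoodSeq @Q)
    (happend : ∀ {R R' : Type u} [CommRing R] [CommRing R'] {n m : ℕ} (π : R →+* R'), Function.Surjective π →
      ∀ (f : Fin n → R) (k : Fin m → R), P f → RingHom.ker π = Ideal.span (Set.range f) → Q (⇑π ∘ k) →
        P (Fin.append f k))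
    {i : Y ⟶ X} {j : Z ⟶ Y} {U : X.affineOpens} {V : Y.affineOpens} {n m : ℕ}
    (hi : PSeqOn @P i U n) (hj : PSeqOn @Q j V m) (z : Z) (hzU : i (j z) ∈ U.1) (hzV : j z ∈ V.1) :
    ∃ W : X.affineOpens, (j ≫ i) z ∈ W.1 ∧ PSeqOn @P (j ≫ i) W (n + m) := by
  have hY := isAffineOpen_preimage i hi.1
  obtain ⟨s, hs, hzs⟩ := hY.exists_basicOpen_le (V := V.1) ⟨j z, hzV⟩ hzU
  obtain ⟨t, rfl⟩ := app_surjective i hi.1 s
  let W : X.affineOpens := X.affineBasicOpen t
  have hiW := pSeqOn_mono hP hi W (X.basicOpen_le t)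
  have hpre : i ⁻¹ᵁ W.1 ≤ V.1 := (Scheme.preimage_basicOpen i t).le.trans hs
  let W' : Y.affineOpens := ⟨i ⁻¹ᵁ W.1, isAffineOpen_preimage i hiW.1⟩
  obtain ⟨hcj, k', hk', hkerj⟩ := pSeqOn_mono hQ hj W' hpre
  obtain ⟨hci, f, hf, hkeri⟩ := hiW
  refine ⟨W, ?_, ?_, ?_⟩
  · show j z ∈ i ⁻¹ᵁ X.basicOpen t
    rw [Scheme.preimage_basicOpen]
    exact hzs
  · rw [morphismRestrict_comp]
    exact MorphismProperty.comp_mem _ _ _ hcj hci
  · let π := (i.app W.1).hom
    have hπ : Function.Surjective π := app_surjective i hci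
    choose k hk using fun a => hπ (k' a)
    have hcomp : π ∘ k = k' := funext hk
    refine ⟨Fin.append f k, happend π hπ f k hf hkeri (hcomp ▸ hk'), ?_⟩
    have happ : RingHom.ker ((j ≫ i).app W.1).hom = (RingHom.ker (j.app W'.1).hom).comap π := by
      ext x; simp [RingHom.mem_ker, π, W']
      rfl
    rw [happ, hkerj]
    refine le_antisymm (fun x hx => ?_) (Ideal.span_le.mpr ?_)
    · obtain ⟨b, hb⟩ := Ideal.mem_span_range_iff_exists_fun.mp (show π x ∈ Ideal.span (Set.range k') from hx)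
      have h1 : x - ∑ a, (hπ (b a)).choose * k a ∈ Ideal.span (Set.range f) := by
        rw [← hkeri, RingHom.mem_ker, map_sub, map_sum, sub_eq_zero]
        refine hb.symm.trans (Finset.sum_congr rfl fun a _ => ?_)
        rw [map_mul, (hπ (b a)).choose_spec, hk]
      rw [← sub_add_cancel x (∑ a, (hπ (b a)).choose * k a)]
      refine add_mem (Ideal.span_mono ?_ h1) (Ideal.sum_mem _ fun a _ => Ideal.mul_mem_left _ _
        (Ideal.subset_span ⟨Fin.natAdd n a, Fin.append_right f k a⟩))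
      rintro _ ⟨a, rfl⟩
      exact ⟨Fin.castAdd m a, Fin.append_left f k a⟩
    · rintro _ ⟨a, rfl⟩
      show π _ ∈ Ideal.span (Set.range k')
      induction a using Fin.addCases with
      | left a =>
        rw [Fin.append_left, show π (f a) = 0 from RingHom.mem_ker.mp (hkeri ▸ Ideal.subset_span ⟨a, rfl⟩)]
        exact zero_mem _
      | right a => rw [Fin.append_right, hk]; exact Ideal.subset_span ⟨a, rfl⟩

theorem ofList_eq_span {R : Type u} [CommRing R] (rs : List R) :
    Ideal.ofList rs = Ideal.span (Set.range rs.get) := by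
  rw [Ideal.ofList]
  congr 1
  ext x
  simp [List.mem_iff_get]

/-- Composition, for two kinds given by good sequence properties. -/
theorem isRegularImmersion_comp_of {P Q : ∀ {R : Type u} [CommRing R] {n : ℕ}, (Fin n → R) → Prop}
    (hP : GoodSeq @P) (hQ : GoodSeq @Q)
    (happend : ∀ {R R' : Type u} [CommRing R] [CommRing R'] {n m : ℕ} (π : R →+* R'), Function.Surjective π →
      ∀ (f : Fin n → R) (k : Fin m → R), P f → RingHom.ker π = Ideal.span (Set.range f) → Q (⇑π ∘ k) →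
        P (Fin.append f k))
    (kP kQ : RegImm.Kind) (hkP : ∀ (R : Type u) [CommRing R] (rs : List R), kP.Seq R rs ↔ P rs.get)
    (hkQ : ∀ (R : Type u) [CommRing R] (rs : List R), kQ.Seq R rs ↔ Q rs.get)
    {i : Y ⟶ X} {j : Z ⟶ Y} (hi : RegImm.IsRegularImmersion kP i) (hj : RegImm.IsRegularImmersion kQ j) :
    RegImm.IsRegularImmersion kP (j ≫ i) := by
  haveI := hi.1
  haveI := hj.1
  refine ⟨inferInstance, fun z => ?_⟩
  obtain ⟨U, hzU, hcU, rs, hrs, hker⟩ := hi.2 (j z)
  obtain ⟨V, hzV, hcV, ss, hss, hker'⟩ := hj.2 z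
  obtain ⟨W, hzW, hc, f, hf, hkf⟩ := exists_pSeqOn_comp hP hQ happend
    (U := U) (V := V) (n := rs.length) (m := ss.length)
    ⟨hcU, rs.get, (hkP _ rs).1 hrs, hker.trans (ofList_eq_span rs)⟩
    ⟨hcV, ss.get, (hkQ _ ss).1 hss, hker'.trans (ofList_eq_span ss)⟩ z hzU hzV
  refine ⟨W, hzW, hc, List.ofFn f, (hkP _ _).2 ?_, ?_⟩
  · have key : ∀ (l : ℕ) (e : l = rs.length + ss.length) (v : Fin l → Γ(X, W.1)),
        (∀ a, v a = f (Fin.cast e a)) → P v := by
      rintro l rfl v hv
      rwa [show v = f from funext hv]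
    exact key _ (List.length_ofFn) _ fun a => by simp; rfl
  · rw [hkf, Ideal.ofList]
    congr 1
    ext x
    simp [List.mem_ofFn]

theorem h1_append {R R' : Type u} [CommRing R] [CommRing R'] {n m : ℕ} (π : R →+* R') (hπ : Function.Surjective π)
    (f : Fin n → R) (k : Fin m → R) (hf : CAlgX.IsH1Regular f) (hker : RingHom.ker π = Ideal.span (Set.range f))
    (hk : CAlgX.IsH1Regular (⇑π ∘ k)) : CAlgX.IsH1Regular (Fin.append f k) := by
  refine Groth.Agent.S2105.result f k hf ?_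
  let e : R ⧸ Ideal.span (Set.range f) ≃+* R' :=
    (Ideal.quotEquivOfEq hker.symm).trans (RingHom.quotientKerEquivOfSurjective hπ)
  letI : Algebra R' (R ⧸ Ideal.span (Set.range f)) := e.symm.toRingHom.toAlgebra
  haveI : Module.Flat R' (R ⧸ Ideal.span (Set.range f)) := RingHom.Flat.of_bijective e.symm.bijective
  have h := goodSeq_h1.flat (S := R ⧸ Ideal.span (Set.range f)) hk
  have he : (⇑(algebraMap R' (R ⧸ Ideal.span (Set.range f))) ∘ (⇑π ∘ k)) =
      fun j => Ideal.Quotient.mk (Ideal.span (Set.range f)) (k j) := by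
    funext j
    show e.symm (π (k j)) = _
    rw [RingEquiv.symm_apply_eq]
    simp [e]
  rwa [he] at h

/-- Composition of H1-regular immersions. -/
theorem isRegularImmersion_comp_h1 {i : Y ⟶ X} {j : Z ⟶ Y} (hi : RegImm.IsRegularImmersion .h1 i)
    (hj : RegImm.IsRegularImmersion .h1 j) : RegImm.IsRegularImmersion .h1 (j ≫ i) :=
  isRegularImmersion_comp_of goodSeq_h1 goodSeq_h1 (fun π hπ f k hf hker hk => h1_append π hπ f k hf hker hk)
    _ _ (fun _ _ _ => Iff.rfl) (fun _ _ _ => Iff.rfl) hi hj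

/-- An H1-regular immersion followed by a quasi-regular immersion is quasi-regular. -/
theorem isRegularImmersion_comp_quasi {i : Y ⟶ X} {j : Z ⟶ Y} (hi : RegImm.IsRegularImmersion .quasi i)
    (hj : RegImm.IsRegularImmersion .h1 j) : RegImm.IsRegularImmersion .quasi (j ≫ i) :=
  isRegularImmersion_comp_of goodSeq_quasi goodSeq_h1
    (fun π hπ f k hf hker hk => QRAppend.quasiRegular_append f k π hπ hker hf hk)
    _ _ (fun _ _ _ => Iff.rfl) (fun _ _ _ => Iff.rfl) hi hj

end Groth.Agent.RegImmKinds
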